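import Cfsg.Agent.SP.Mon.Iface
import Cfsg.Agent.SP.Mon.NL.Cent
import Cfsg.Agent.DS.M.ConMain

/-! # S5755, the Monster, the prime 3: classes and boxes

Every box may take `H940.Eng.Base` as a hypothesis.  Proofs on paper: `notes/SP/Monster.md`. -/

set_option autoImplicit false
set_option maxRecDepth 100000
set_option linter.style.haveILetI false

namespace Cfsg.Agent.SP.Mon

open Subgroup Cfsg
open Cfsg.Agent.MonsterX Cfsg.Agent.MonsterP Cfsg.Agent.LThreeMB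
open Cfsg.Agent.BpSpor.MBigModel (MG zz pi chart cls)
open Cfsg.Agent.LThreeB.Row (TA)
open Cfsg.Agent.DS.M.Con (TB)

/-- the class `3B` -/
def T3B (x : MG) : Prop :=
  ∃ x' : centralizer ({zz} : Set MG), orderOf x' = 3 ∧ fr (pi x') = 1 ∧ ∃ c : MG, c * x' * c⁻¹ = x

/-- `|C(3B)|` -/
abbrev dD : ℕ := 3 ^ 13 * (448345497600 * 2)

/-- the centralizer of a `3A`-pure group of order nine -/
abbrev c0 : ℕ := 9 * 4952179814400

/-- Box `Ev3`: every element of order three commutes with an involution. -/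
def BoxEv3 : Prop := ∀ x : MG, orderOf x = 3 → 2 ∣ Nat.card (centralizer ({x} : Set MG))

/-- Box `CQ`: elements of order three of `C(3B)` outside `3 ^ (1 + 12)`. -/
def BoxCQ : Prop := ∀ x : MG, T3B x → ∃ N : Subgroup MG, TB x N ∧ ∀ y : MG, orderOf y = 3 → y * x = x * y → y ∉ N →
  Nat.card (centralizer ({x} : Set MG) ⊓ centralizer ({y} : Set MG) : Subgroup MG) ≤ 3 ^ 7 * (2 * 9797760)

/-- Box `N2`: the involutions of `C(3B)` (true value about `8.98e8`). -/
def BoxN2 : Prop := ∀ x : MG, T3B x → {t : MG | orderOf t = 2 ∧ t * x = x * t}.ncard ≤ 10 ^ 9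

/-- Box `NI`: the involutions inverting an element of class `3B`. -/
def BoxNI : Prop := ∀ x : MG, T3B x → {t : MG | orderOf t = 2 ∧ t * x = x⁻¹ * t}.ncard ≤ 4 * 10 ^ 10

/-- Box `N3`: the elements of order three of `C(3B)`. -/
def BoxN3 : Prop := ∀ x : MG, T3B x → {y : MG | orderOf y = 3 ∧ y * x = x * y}.ncard ≤ 28 * 10 ^ 13

/-- Box `N5`: the elements of order five of `C(3B)`. -/
def BoxN5 : Prop := ∀ x : MG, T3B x → {y : MG | orderOf y = 5 ∧ y * x = x * y}.ncard ≤ 36 * 10 ^ 15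

/-- Box `Gam`: the elements of class `3A` of `C(3B)`. -/
def BoxGam : Prop := ∀ x : MG, T3B x → {y : MG | T3A y ∧ y * x = x * y}.ncard ≤ 10 ^ 11

/-- Box `Rk`: elementary abelian `3`-subgroups containing an element of class `3B`. -/
def BoxRk : Prop := ∀ (V : Subgroup MG) (x : MG), (∀ v ∈ V, v ^ 3 = 1) → (∀ v ∈ V, ∀ w ∈ V, v * w = w * v) →
  x ∈ V → T3B x → Nat.card V ≤ 3 ^ 8

/-- Box `P27`: a `3A`-pure elementary abelian subgroup has order at most nine. -/
def BoxP27 : Prop := ∀ V : Subgroup MG, (∀ v ∈ V, v ≠ 1 → T3A v) → (∀ v ∈ V, ∀ w ∈ V, v * w = w * v) →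
  Nat.card V ≤ 9

/-- Box `PL`: a `3A`-pure group `⟨x, y⟩` of order nine maps to the class `3A` of `Fi24'`. -/
def BoxPL : Prop := ∀ (x y : MG) (H : Subgroup MG), T3A x → T3A y → T3A (y * x) → T3A (y * x⁻¹) → y * x = x * y →
  y ∉ zpowers x → (∀ h ∈ H, h * x = x * h ∧ h * y * h⁻¹ * y⁻¹ ∈ zpowers x) → Nat.card H ∣ 3 * c0

/-- Box `AA`: the `2A`-involutions of `C(3A)` (true value `4860485028`). -/
def BoxAA : Prop := ∀ x : MG, T3A x → {t : MG | TA t ∧ t * x = x * t}.ncard ≤ 7 * 10 ^ 9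

/-- Box `N3A`: no pair in the normaliser of a group of order three of class `3A`. -/
def BoxN3A : Prop := ∀ x : MG, T3A x → NoPairIn (normalizer (zpowers x : Set MG))

/-- Box `L3C`: `V` contains an element of class `3C`. -/
def BoxL3C : Prop := ∀ A B V : Subgroup MG, IsPair A B → MinInv 3 A V → (∃ x ∈ V, T3C x) → False

/-- Box `L3A`: `V` is `3A`-pure. -/
def BoxL3A : Prop := ∀ A B V : Subgroup MG, IsPair A B → MinInv 3 A V → (∀ v ∈ V, v ≠ 1 → T3A v) → False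

/-- Box `L3B`: `V` consists of elements of the classes `3A`, `3B`, and `3B` occurs. -/
def BoxL3B : Prop := ∀ A B V : Subgroup MG, IsPair A B → MinInv 3 A V → (∀ v ∈ V, v ≠ 1 → T3A v ∨ T3B v) →
  (∃ x ∈ V, T3B x) → False

theorem T3B.order {x : MG} (h : T3B x) : orderOf x = 3 := by
  obtain ⟨x', h1, -, c, rfl⟩ := h
  exact (orderOf_injective (MulAut.conj c).toMonoidHom (MulAut.conj c).injective (x' : MG)).trans
    ((Subgroup.orderOf_coe x').trans h1)

theorem T3B.conj {x : MG} (h : T3B x) (g : MG) : T3B (g * x * g⁻¹) := by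
  obtain ⟨x', h1, h2, c, rfl⟩ := h
  exact ⟨x', h1, h2, g * c, by group⟩

theorem T3B.card_dvd {x : MG} (h : T3B x) : Nat.card (centralizer ({x} : Set MG)) ∣ dD := by
  obtain ⟨x', h1, h2, c, hc⟩ := h
  rw [BpSpor.card_cent_of_conj hc]
  exact H199.AbMon.three_zero' h1 h2

theorem T3B.exists_TB {x : MG} (h : T3B x) : ∃ N : Subgroup MG, TB x N := by
  obtain ⟨x', h1, h2, c, rfl⟩ := h
  obtain ⟨N, hN⟩ := DS.M.Con.exists_TB h1 h2
  exact hN.conj c

theorem T3A.conj {x : MG} (h : T3A x) (g : MG) : T3A (g * x * g⁻¹) :=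
  ⟨(orderOf_injective (MulAut.conj g).toMonoidHom (MulAut.conj g).injective x).trans h.1,
    (BpSpor.card_cent_of_conj rfl).trans h.2⟩

theorem T3C.conj {x : MG} (h : T3C x) (g : MG) : T3C (g * x * g⁻¹) :=
  ⟨(orderOf_injective (MulAut.conj g).toMonoidHom (MulAut.conj g).injective x).trans h.1,
    (BpSpor.card_cent_of_conj rfl).trans h.2⟩

theorem T3B.not_A {x : MG} (h : T3B x) : ¬ T3A x := fun hA => by
  have h1 := h.card_dvd
  rw [hA.2] at h1
  exact absurd h1 (by norm_num)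

theorem T3B.not_C {x : MG} (h : T3B x) : ¬ T3C x := fun hA => by
  have h1 := h.card_dvd
  rw [hA.2] at h1
  exact absurd h1 (by norm_num)

theorem T3A.not_C {x : MG} (h : T3A x) : ¬ T3C x := fun hC => by
  have h1 := h.2
  rw [hC.2] at h1
  norm_num at h1

/-- the classes of the elements of order three of `C(zz)`, by the fixed rank -/
theorem tri_in {x : centralizer ({zz} : Set MG)} (hx : orderOf x = 3) :
    (T3A (x : MG) ∧ fr (pi x) = 2 ^ 12 ∧ Spor.IsoFi24' (XX (x : MG))) ∨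
      (T3B (x : MG) ∧ (fr (pi x) = 1 ∨ fr (pi x) = 2 ^ 6)) ∨
      (T3C (x : MG) ∧ fr (pi x) = 2 ^ 8 ∧ Spor.IsoTh (XX (x : MG))) := by
  have := BpSpor.MBigModel.finite
  have := BpSpor.MBigModel.simple
  have I := CoOneFin.coOne
  have htr := KPair.trNe KDone.lft LThreeB.Row.cent (LThreeMBTr.traceNe KDone.lft LThreeMBTr.TensK.tens)
  have hxo : orderOf (x : MG) = 3 := by rw [Subgroup.orderOf_coe, hx]
  rcases I.ranks (pi x) (orderOf_pi chart hx) with h1 | h1 | h1 | h1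
  · exact Or.inr (Or.inl ⟨⟨x, hx, h1, 1, by group⟩, Or.inl h1⟩)
  · obtain ⟨x₀, u, g, hx₀, hfr₀, huz, hux, hne, hg⟩ :=
      KPair.hasPair KDone.lft LThreeB.Row.cent PreUniq.MonRow.second COct.octPair
    obtain ⟨k, hk⟩ := conj_six chart htr I.ranks I.six
      (fun x hx h2 => ⟨(good_of_inputs chart I hx h2 : Good.{0} _).simple, (good_of_inputs chart I hx h2 : Good.{0} _).nc⟩)
      hx₀ hfr₀ huz hux hne hg hx h1
    exact Or.inr (Or.inl ⟨⟨x₀, hx₀, hfr₀, k⁻¹, by rw [← hk]; group⟩, Or.inr h1⟩)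
  · obtain ⟨e⟩ := LThreeB.isoTh_of_inputs chart I hx h1
    exact Or.inr (Or.inr ⟨⟨hxo, by
      rw [H199.NSmMon.card_XX, hxo, Nat.card_congr e.toEquiv, Cfsg.Agent.S1700.result.2]⟩, h1, ⟨e⟩⟩)
  · obtain ⟨e⟩ := LThreeB.isoFi_of_inputs chart I hx h1
    exact Or.inl ⟨⟨hxo, by
      rw [H199.NSmMon.card_XX, hxo, Nat.card_congr e.toEquiv, Cfsg.Agent.S1698.result.2]⟩, h1, ⟨e⟩⟩

/-- an element of order three with a centralizer of even order is conjugate into `C(zz)` -/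
theorem exists_in' {x : MG} (hx : orderOf x = 3) (he : 2 ∣ Nat.card (centralizer ({x} : Set MG))) :
    ∃ (x' : centralizer ({zz} : Set MG)) (c : MG), orderOf x' = 3 ∧ c * x' * c⁻¹ = x := by
  obtain ⟨g, hg⟩ := H199.NSmMon.ev_of_even hx (by rw [Nat.not_odd_iff_even]; exact even_iff_two_dvd.2 he)
  have h1 : (g⁻¹ * x * g) * zz = zz * (g⁻¹ * x * g) := by
    calc (g⁻¹ * x * g) * zz = g⁻¹ * (x * (g * zz * g⁻¹)) * g := by group
      _ = g⁻¹ * ((g * zz * g⁻¹) * x) * g := by rw [hg]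
      _ = zz * (g⁻¹ * x * g) := by group
  refine ⟨⟨g⁻¹ * x * g, mem_centralizer_singleton_iff.2 h1⟩, g, ?_, by
    change g * (g⁻¹ * x * g) * g⁻¹ = x
    group⟩
  rw [Subgroup.orderOf_mk, orderOf_conj', hx]

/-- **The three classes.** -/
theorem tri_ev {x : MG} (hx : orderOf x = 3) (he : 2 ∣ Nat.card (centralizer ({x} : Set MG))) :
    T3A x ∨ T3B x ∨ T3C x := by
  obtain ⟨x', c, h1, rfl⟩ := exists_in' hx he
  rcases tri_in h1 with h | h | h
  · exact Or.inl (h.1.conj c)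
  · exact Or.inr (Or.inl (h.1.conj c))
  · exact Or.inr (Or.inr (h.1.conj c))

theorem conj_of_fr {n : ℕ} (hn : ClassOf n) {x y : centralizer ({zz} : Set MG)} (hx : orderOf x = 3)
    (hy : orderOf y = 3) (h1 : fr (pi x) = n) (h2 : fr (pi y) = n) : ∃ c : MG, c * y * c⁻¹ = x := by
  obtain ⟨x', hx', e, c, hc⟩ := exists_conj_to chart hx (orderOf_pi chart hy) (h1 ▸ hn) (h2.trans h1.symm)
  obtain ⟨q, -, hq⟩ := exists_conj_of_pi_eq chart (x := y) (y := x') (by rw [← hy, pow_orderOf_eq_one])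
    (by rw [← hx', pow_orderOf_eq_one]) e.symm
  exact ⟨c * q, by rw [← hc, ← hq]; group⟩

/-- `3A` : a representative in `C(zz)` -/
theorem T3A.exists_in {x : MG} (h : T3A x) : ∃ (x' : centralizer ({zz} : Set MG)) (c : MG), orderOf x' = 3 ∧
    fr (pi x') = 2 ^ 12 ∧ Spor.IsoFi24' (XX (x' : MG)) ∧ c * x' * c⁻¹ = x := by
  obtain ⟨x', c, h1, rfl⟩ := exists_in' h.1 (by rw [h.2]; norm_num)
  rcases tri_in h1 with k | k | k
  · exact ⟨x', c, h1, k.2.1, k.2.2, rfl⟩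
  · exact absurd h (k.1.conj c).not_A
  · exact absurd (k.1.conj c) h.not_C

/-- `3A` is one class -/
theorem T3A.isConj {x y : MG} (hx : T3A x) (hy : T3A y) : ∃ c : MG, c * y * c⁻¹ = x := by
  obtain ⟨x', c, h1, h2, -, rfl⟩ := hx.exists_in
  obtain ⟨y', d, h3, h4, -, rfl⟩ := hy.exists_in
  obtain ⟨k, hk⟩ := conj_of_fr CoOneFin.coOne.twelve h1 h3 h2 h4
  exact ⟨c * k * d⁻¹, by rw [← hk]; group⟩

/-- **Box `L 3` from the three cases.** -/
theorem boxL3_of (hE : BoxEv3) (hA : BoxL3A) (hB : BoxL3B) (hC : BoxL3C) : BoxL 3 := by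
  intro A B V h hV
  by_cases h1 : ∃ x ∈ V, T3C x
  · exact hC A B V h hV h1
  have h2 : ∀ v ∈ V, v ≠ 1 → T3A v ∨ T3B v := fun v hv h0 => by
    have ho := hV.orderOf_eq Nat.prime_three hv h0
    rcases tri_ev ho (hE v ho) with k | k | k
    · exact Or.inl k
    · exact Or.inr k
    · exact absurd ⟨v, hv, k⟩ h1
  by_cases h3 : ∃ x ∈ V, T3B x
  · exact hB A B V h hV h2 h3
  · exact hA A B V h hV fun v hv h0 => (h2 v hv h0).resolve_right fun k => h3 ⟨v, hv, k⟩

end Cfsg.Agent.SP.Mon
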